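import Mathlib
import Cfsg.Agent.Lib.Helper40.OTSP.Defs

/-!
# SPREAD cut of OTSP (S5973): the general embedding lemma

`embOut_of_sum`: the orthogonal sum of the N-part `(F^(2n), Qs, g)` with any quadratic space
`(F^X, Q₂)` of dimension `2 c` with nondegenerate polar form, such that the sum has a totally
singular subspace of dimension `n + c`, gives `EmbOut n r (n + c) Qs g`.
-/

set_option autoImplicit false

namespace Cfsg.Agent.Lib.Helper19.OTSP

open Matrix Cfsg.Agent.Lib.Helper40.OTSP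

universe u

section sumQ

variable {F : Type u} [Field F] {A B : Type}

/-- the orthogonal sum of two quadratic forms on function spaces -/
noncomputable def sumQ (Q₁ : QuadraticForm F (A → F)) (Q₂ : QuadraticForm F (B → F)) :
    QuadraticForm F (A ⊕ B → F) :=
  Q₁.comp (LinearMap.funLeft F F Sum.inl) + Q₂.comp (LinearMap.funLeft F F Sum.inr)

theorem sumQ_apply (Q₁ : QuadraticForm F (A → F)) (Q₂ : QuadraticForm F (B → F))
    (w : A ⊕ B → F) : sumQ Q₁ Q₂ w = Q₁ (w ∘ Sum.inl) + Q₂ (w ∘ Sum.inr) := rfl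

theorem sumQ_polar (Q₁ : QuadraticForm F (A → F)) (Q₂ : QuadraticForm F (B → F))
    (u v : A ⊕ B → F) :
    QuadraticMap.polar (sumQ Q₁ Q₂) u v = QuadraticMap.polar Q₁ (u ∘ Sum.inl) (v ∘ Sum.inl)
      + QuadraticMap.polar Q₂ (u ∘ Sum.inr) (v ∘ Sum.inr) := by
  unfold QuadraticMap.polar
  rw [sumQ_apply, sumQ_apply, sumQ_apply]
  have h1 : (u + v) ∘ Sum.inl = u ∘ Sum.inl + v ∘ Sum.inl := rfl
  have h2 : (u + v) ∘ Sum.inr = u ∘ Sum.inr + v ∘ Sum.inr := rfl
  rw [h1, h2]
  ring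

theorem sumQ_nondeg (Q₁ : QuadraticForm F (A → F)) (Q₂ : QuadraticForm F (B → F))
    (h₁ : (QuadraticMap.polarBilin Q₁).Nondegenerate)
    (h₂ : (QuadraticMap.polarBilin Q₂).Nondegenerate) :
    (QuadraticMap.polarBilin (sumQ Q₁ Q₂)).Nondegenerate := by
  have key : ∀ u : A ⊕ B → F, (∀ v, QuadraticMap.polar (sumQ Q₁ Q₂) u v = 0) → u = 0 := by
    intro u hu
    have ha : u ∘ Sum.inl = 0 := by
      apply h₁.1
      intro a
      have h := hu (Sum.elim a 0)
      rw [sumQ_polar] at h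
      rw [QuadraticMap.polarBilin_apply_apply]
      have e1 : (Sum.elim a (0 : B → F)) ∘ Sum.inl = a := rfl
      have e2 : (Sum.elim a (0 : B → F)) ∘ Sum.inr = 0 := rfl
      rw [e1, e2, QuadraticMap.polar_zero_right, add_zero] at h
      exact h
    have hb : u ∘ Sum.inr = 0 := by
      apply h₂.1
      intro b
      have h := hu (Sum.elim 0 b)
      rw [sumQ_polar] at h
      rw [QuadraticMap.polarBilin_apply_apply]
      have e1 : (Sum.elim (0 : A → F) b) ∘ Sum.inl = 0 := rfl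
      have e2 : (Sum.elim (0 : A → F) b) ∘ Sum.inr = b := rfl
      rw [e1, e2, QuadraticMap.polar_zero_right, zero_add] at h
      exact h
    funext i
    rcases i with i | i
    · exact congrFun ha i
    · exact congrFun hb i
  constructor
  · intro u hu
    exact key u (fun v => by
      have h := hu v
      rwa [QuadraticMap.polarBilin_apply_apply] at h)
  · intro u hu
    exact key u (fun v => by
      have h := hu v
      rw [QuadraticMap.polarBilin_apply_apply] at h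
      rw [QuadraticMap.polar_comm]
      exact h)

end sumQ

section emb

variable {F : Type u} [Field F] {n : ℕ} {X : Type} [Fintype X] [DecidableEq X]

/-- the block matrix `g ⊕ 1` -/
def phiM (X : Type) [Fintype X] [DecidableEq X] (g : Matrix (Fin n ⊕ Fin n) (Fin n ⊕ Fin n) F) :
    Matrix ((Fin n ⊕ Fin n) ⊕ X) ((Fin n ⊕ Fin n) ⊕ X) F := Matrix.fromBlocks g 0 0 1

theorem phiM_inl (g : Matrix (Fin n ⊕ Fin n) (Fin n ⊕ Fin n) F)
    (v : (Fin n ⊕ Fin n) ⊕ X → F) : (phiM X g *ᵥ v) ∘ Sum.inl = g *ᵥ (v ∘ Sum.inl) := by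
  unfold phiM
  rw [Matrix.fromBlocks_mulVec]
  funext i
  simp

theorem phiM_inr (g : Matrix (Fin n ⊕ Fin n) (Fin n ⊕ Fin n) F)
    (v : (Fin n ⊕ Fin n) ⊕ X → F) : (phiM X g *ᵥ v) ∘ Sum.inr = v ∘ Sum.inr := by
  unfold phiM
  rw [Matrix.fromBlocks_mulVec]
  funext i
  simp

/-- extension by zero -/
def extL (F : Type u) [Field F] (n : ℕ) (X : Type) :
    (Fin n ⊕ Fin n → F) →ₗ[F] ((Fin n ⊕ Fin n) ⊕ X → F) where
  toFun a := Sum.elim a 0
  map_add' a b := by funext i; rcases i with i | i <;> simp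
  map_smul' c a := by funext i; rcases i with i | i <;> simp

theorem extL_inl (a : Fin n ⊕ Fin n → F) : (extL F n X a) ∘ Sum.inl = a := rfl

theorem extL_inr (a : Fin n ⊕ Fin n → F) : (extL F n X a) ∘ Sum.inr = 0 := rfl

theorem extL_injective : Function.Injective (extL F n X) := fun a b h => by
  have h' := congrArg (fun w : (Fin n ⊕ Fin n) ⊕ X → F => w ∘ Sum.inl) h
  exact h'

theorem phi_sub_apply (g : Matrix (Fin n ⊕ Fin n) (Fin n ⊕ Fin n) F)
    (v : (Fin n ⊕ Fin n) ⊕ X → F) :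
    (Matrix.toLin' (phiM X g) - 1) v = extL F n X (g *ᵥ (v ∘ Sum.inl) - v ∘ Sum.inl) := by
  funext i
  rcases i with i | i
  · show (phiM X g *ᵥ v) (Sum.inl i) - v (Sum.inl i) = (g *ᵥ (v ∘ Sum.inl)) i - v (Sum.inl i)
    rw [← phiM_inl]
    rfl
  · show (phiM X g *ᵥ v) (Sum.inr i) - v (Sum.inr i) = 0
    have h := congrFun (phiM_inr g v) i
    rw [sub_eq_zero]
    exact h

theorem range_phi (g : Matrix (Fin n ⊕ Fin n) (Fin n ⊕ Fin n) F)
    (hfpf : ∀ v, g *ᵥ v = v → v = 0) :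
    LinearMap.range (Matrix.toLin' (phiM X g) - 1) = LinearMap.range (extL F n X) := by
  apply le_antisymm
  · rintro w ⟨v, rfl⟩
    exact ⟨_, (phi_sub_apply g v).symm⟩
  · rintro w ⟨a, rfl⟩
    have hinj : Function.Injective
        (Matrix.toLin' g - (1 : (Fin n ⊕ Fin n → F) →ₗ[F] (Fin n ⊕ Fin n → F))) := by
      rw [← LinearMap.ker_eq_bot, LinearMap.ker_eq_bot']
      intro v hv
      apply hfpf
      have hv' : g *ᵥ v - v = 0 := hv
      exact sub_eq_zero.1 hv'
    obtain ⟨b, hb⟩ := (LinearMap.injective_iff_surjective.1 hinj) a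
    refine ⟨extL F n X b, ?_⟩
    rw [phi_sub_apply, extL_inl]
    congr 1

/-- **The general embedding lemma.** -/
theorem embOut_of_sum (n r c : ℕ) (Qs : QuadraticForm F (Fin n ⊕ Fin n → F))
    (g : Matrix (Fin n ⊕ Fin n) (Fin n ⊕ Fin n) F) (hN : NData n r Qs g)
    (X : Type) [Fintype X] [DecidableEq X] (hX : Fintype.card X = 2 * c)
    (Q₂ : QuadraticForm F (X → F)) (h₂ : (QuadraticMap.polarBilin Q₂).Nondegenerate)
    (T : Submodule F ((Fin n ⊕ Fin n) ⊕ X → F)) (hT : ∀ w ∈ T, sumQ Qs Q₂ w = 0)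
    (hTr : Module.finrank F T = n + c) : EmbOut n r (n + c) Qs g := by
  refine ⟨(Fin n ⊕ Fin n) ⊕ X, inferInstance, inferInstance, sumQ Qs Q₂, phiM X g, ?_,
    sumQ_nondeg _ _ hN.nondeg h₂, ⟨T, hT, hTr⟩, ?_, ?_, ?_, ?_⟩
  · simp only [Fintype.card_sum, Fintype.card_fin, hX]
    ring
  · intro v
    rw [sumQ_apply, sumQ_apply, phiM_inl, phiM_inr, hN.isom]
  · unfold phiM
    rw [Matrix.fromBlocks_diagonal_pow, hN.pow, one_pow, Matrix.fromBlocks_one]
  · rw [range_phi g hN.fpf, LinearMap.finrank_range_of_inj extL_injective]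
    simp
    ring
  · intro L' hL' hinv hts
    rw [range_phi g hN.fpf] at hL'
    have hinr : ∀ w ∈ L', w ∘ Sum.inr = 0 := by
      intro w hw
      obtain ⟨a, rfl⟩ := hL' hw
      rfl
    let ρ : L' →ₗ[F] (Fin n ⊕ Fin n → F) := (LinearMap.funLeft F F Sum.inl).comp L'.subtype
    have hρ : Function.Injective ρ := by
      rintro ⟨w, hw⟩ ⟨w', hw'⟩ h
      apply Subtype.ext
      show w = w'
      funext i
      rcases i with i | i
      · exact congrFun h i
      · have h1 := congrFun (hinr w hw) i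
        have h2 := congrFun (hinr w' hw') i
        exact h1.trans h2.symm
    refine ⟨LinearMap.range ρ, ?_, ?_, LinearMap.finrank_range_of_inj hρ⟩
    · rintro _ ⟨_, ⟨⟨w, hw⟩, rfl⟩, rfl⟩
      refine ⟨⟨phiM X g *ᵥ w, hinv ⟨w, hw, rfl⟩⟩, ?_⟩
      exact phiM_inl g w
    · rintro _ ⟨⟨w, hw⟩, rfl⟩
      have h := hts w hw
      rw [sumQ_apply, hinr w hw, QuadraticMap.map_zero, add_zero] at h
      exact h

end emb

end Cfsg.Agent.Lib.Helper19.OTSP
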