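import Mathlib
import Cfsg.Agent.Lib.Helper19.OTSP.EmbGen
import Cfsg.Agent.Lib.Helper99.Quad3
import Cfsg.Agent.Lib.Helper14.Forms

/-!
# SPREAD cut of OTSP (S5973), package [EMBM]: the N-part is not of plus type
-/

set_option autoImplicit false

namespace Cfsg.Agent.Lib.Helper19.OTSP

open Matrix Module QuadraticMap Cfsg.Agent.Lib.Helper40.OTSP Cfsg.Agent.Lib.Helper99

universe u v

section plane

variable {F : Type u} [Field F] {V : Type v} [AddCommGroup V] [Module F V]

/-- the linear map `a ↦ a 0 • x + a 1 • y` -/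
noncomputable def ell (x y : V) : (Fin 2 → F) →ₗ[F] V := Fintype.linearCombination F ![x, y]

theorem ell_apply (x y : V) (a : Fin 2 → F) : ell x y a = a 0 • x + a 1 • y := by
  unfold ell
  rw [Fintype.linearCombination_apply, Fin.sum_univ_two]
  rfl

/-- the negative of the restriction of `Q` to the plane spanned by `x`, `y` -/
noncomputable def negPlane (Q : QuadraticForm F V) (x y : V) : QuadraticForm F (Fin 2 → F) :=
  -(Q.comp (ell x y))

theorem negPlane_apply (Q : QuadraticForm F V) (x y : V) (a : Fin 2 → F) :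
    negPlane Q x y a = -Q (ell x y a) := rfl

theorem negPlane_polar (Q : QuadraticForm F V) (x y : V) (u v : Fin 2 → F) :
    polar (negPlane Q x y) u v = -polar Q (ell x y u) (ell x y v) := by
  unfold polar
  rw [negPlane_apply, negPlane_apply, negPlane_apply, map_add]
  ring

theorem negPlane_nondeg (Q : QuadraticForm F V) (x y : V) (hx : Q x = 1) (hxy : polar Q x y = 1)
    (han : ∀ t : F, t ^ 2 + t + Q y ≠ 0) : (polarBilin (negPlane Q x y)).Nondegenerate := by
  have key : ∀ u : Fin 2 → F, (∀ v, polar (negPlane Q x y) u v = 0) → u = 0 := by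
    intro u hu
    have hxx : polar Q x x = 2 := by
      rw [polar_self, hx]; simp
    have hyy : polar Q y y = 2 * Q y := by
      rw [polar_self]; simp
    have hyx : polar Q y x = 1 := by rw [polar_comm, hxy]
    have e1 := hu ![1, 0]
    have e2 := hu ![0, 1]
    rw [negPlane_polar, neg_eq_zero, ell_apply, ell_apply] at e1 e2
    have s1 : (![1, 0] : Fin 2 → F) 0 • x + (![1, 0] : Fin 2 → F) 1 • y = x := by simp
    have s2 : (![0, 1] : Fin 2 → F) 0 • x + (![0, 1] : Fin 2 → F) 1 • y = y := by simp
    rw [s1, polar_add_left, polar_smul_left, polar_smul_left, hxx, hyx, smul_eq_mul,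
      smul_eq_mul] at e1
    rw [s2, polar_add_left, polar_smul_left, polar_smul_left, hxy, hyy, smul_eq_mul,
      smul_eq_mul] at e2
    have h0 : u 0 * (1 - 4 * Q y) = 0 := by linear_combination e2 - 2 * Q y * e1
    have hb : (1 : F) - 4 * Q y ≠ 0 := by
      intro h4
      have h2 : (2 : F) ≠ 0 := by
        intro h2
        have h4' : (4 : F) = 0 := by
          have : (4 : F) = 2 * 2 := by norm_num
          rw [this, h2, mul_zero]
        rw [h4', zero_mul, sub_zero] at h4
        exact one_ne_zero h4
      apply han (-(2 : F)⁻¹)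
      field_simp
      linear_combination -h4
    have hu0 : u 0 = 0 := by
      rcases mul_eq_zero.1 h0 with h | h
      · exact h
      · exact absurd h hb
    have hu1 : u 1 = 0 := by
      rw [hu0] at e1
      linear_combination e1
    funext i
    fin_cases i
    · exact hu0
    · exact hu1
  constructor
  · intro u hu
    exact key u (fun v => by
      have h := hu v
      rwa [polarBilin_apply_apply] at h)
  · intro u hu
    exact key u (fun v => by
      have h := hu v
      rw [polarBilin_apply_apply] at h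
      rw [polar_comm]
      exact h)

end plane

section T

variable {F : Type u} [Field F] {n k c : ℕ}

/-- parametrisation of the totally singular subspace -/
noncomputable def PsiM (e : Fin k → (Fin n ⊕ Fin n → F)) (x y : Fin n ⊕ Fin n → F) (c : ℕ) :
    ((Fin k → F) × (Fin 2 → F) × (Fin c → F)) →ₗ[F]
      ((Fin n ⊕ Fin n) ⊕ (Fin 2 ⊕ (Fin c ⊕ Fin c)) → F) where
  toFun p := Sum.elim (Fintype.linearCombination F e p.1 + ell x y p.2.1)
    (Sum.elim p.2.1 (Sum.elim p.2.2 0))
  map_add' p q := by
    funext i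
    rcases i with i | i | i | i
    · simp only [Prod.fst_add, Prod.snd_add, map_add, Sum.elim_inl, Pi.add_apply]
      ring
    · simp only [Prod.fst_add, Prod.snd_add, Sum.elim_inl, Sum.elim_inr, Pi.add_apply]
    · simp only [Prod.fst_add, Prod.snd_add, Sum.elim_inl, Sum.elim_inr, Pi.add_apply]
    · simp only [Sum.elim_inr, Pi.add_apply, Pi.zero_apply, add_zero]
  map_smul' a p := by
    funext i
    rcases i with i | i | i | i
    · simp only [Prod.smul_fst, Prod.smul_snd, map_smul, Sum.elim_inl, Pi.add_apply,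
        Pi.smul_apply, RingHom.id_apply, smul_eq_mul]
      ring
    · simp only [Prod.smul_fst, Prod.smul_snd, Sum.elim_inl, Sum.elim_inr, Pi.smul_apply,
        RingHom.id_apply]
    · simp only [Prod.smul_fst, Prod.smul_snd, Sum.elim_inl, Sum.elim_inr, Pi.smul_apply,
        RingHom.id_apply]
    · simp only [Sum.elim_inr, Pi.smul_apply, Pi.zero_apply, RingHom.id_apply, smul_zero]

theorem PsiM_inl (e : Fin k → (Fin n ⊕ Fin n → F)) (x y : Fin n ⊕ Fin n → F)
    (p : (Fin k → F) × (Fin 2 → F) × (Fin c → F)) :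
    (PsiM e x y c p) ∘ Sum.inl = Fintype.linearCombination F e p.1 + ell x y p.2.1 := rfl

theorem PsiM_inr (e : Fin k → (Fin n ⊕ Fin n → F)) (x y : Fin n ⊕ Fin n → F)
    (p : (Fin k → F) × (Fin 2 → F) × (Fin c → F)) :
    (PsiM e x y c p) ∘ Sum.inr = Sum.elim p.2.1 (Sum.elim p.2.2 0) := rfl

theorem PsiM_injective (e : Fin k → (Fin n ⊕ Fin n → F)) (x y : Fin n ⊕ Fin n → F)
    (he : LinearIndependent F e) : Function.Injective (PsiM e x y c) := by
  rintro ⟨α, a, h⟩ ⟨α', a', h'⟩ hp
  have h1 := congrArg (fun w : (Fin n ⊕ Fin n) ⊕ (Fin 2 ⊕ (Fin c ⊕ Fin c)) → F => w ∘ Sum.inl) hp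
  have h2 := congrArg (fun w : (Fin n ⊕ Fin n) ⊕ (Fin 2 ⊕ (Fin c ⊕ Fin c)) → F => w ∘ Sum.inr) hp
  simp only [PsiM_inl, PsiM_inr] at h1 h2
  have ha : a = a' := by
    have := congrArg (fun w : Fin 2 ⊕ (Fin c ⊕ Fin c) → F => w ∘ Sum.inl) h2
    exact this
  have hh : h = h' := by
    have := congrArg (fun w : Fin 2 ⊕ (Fin c ⊕ Fin c) → F => (w ∘ Sum.inr) ∘ Sum.inl) h2
    exact this
  subst ha
  subst hh
  have hα : α = α' :=
    (linearIndependent_iff_injective_fintypeLinearCombination.1 he) (add_right_cancel h1)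
  subst hα
  rfl

end T

/-- **[EMBM]** -/
theorem pkgEmbM : PkgEmbM.{u} := by
  intro F _ _ n r c Qs g hN hno hc
  obtain ⟨c', rfl⟩ : ∃ c', c = c' + 1 := ⟨c - 1, by omega⟩
  have hfr : finrank F (Fin n ⊕ Fin n → F) = 2 * n := by
    rw [Module.finrank_fintype_fun_eq_card, Fintype.card_sum, Fintype.card_fin]
    ring
  obtain ⟨k, e, f, hH, hcase⟩ := witt Qs hN.nondeg
  have hsing : ∀ α : Fin k → F, Qs (Fintype.linearCombination F e α) = 0 := by
    intro α
    rw [Fintype.linearCombination_apply]
    exact sing_sum Qs _ e α (fun i => (hH.1 i).1) (fun i j => (hH.2.2 i j).1)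
  rcases hcase with ⟨b, hbe, hbf⟩ | ⟨x, b, -, -, -, -, -⟩ |
    ⟨x, y, b, hx, hxy, han, hxe, hye, hbe, hbf, hbx, hby⟩
  · exfalso
    apply hno
    have hk : k = n := by
      have h1 := Module.finrank_eq_card_basis b
      rw [hfr, Fintype.card_sum, Fintype.card_fin] at h1
      omega
    have hli : LinearIndependent F e := by
      have h1 := b.linearIndependent.comp Sum.inl Sum.inl_injective
      have h2 : (⇑b ∘ Sum.inl) = e := funext hbe
      rwa [h2] at h1
    refine ⟨Submodule.span F (Set.range e), ?_, ?_⟩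
    · intro w hw
      obtain ⟨α, rfl⟩ := (Submodule.mem_span_range_iff_exists_fun F).1 hw
      have := hsing α
      rwa [Fintype.linearCombination_apply] at this
    · rw [finrank_span_eq_card hli, Fintype.card_fin, hk]
  · exfalso
    have h1 := Module.finrank_eq_card_basis b
    rw [hfr] at h1
    simp only [Fintype.card_sum, Fintype.card_fin, Fintype.card_unit] at h1
    omega
  · have hk : n = k + 1 := by
      have h1 := Module.finrank_eq_card_basis b
      rw [hfr] at h1
      simp only [Fintype.card_sum, Fintype.card_fin] at h1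
      omega
    have hli : LinearIndependent F e := by
      have h1 := b.linearIndependent.comp (Sum.inl ∘ Sum.inl)
        (Sum.inl_injective.comp Sum.inl_injective)
      have h2 : (⇑b ∘ (Sum.inl ∘ Sum.inl)) = e := funext hbe
      rwa [h2] at h1
    refine embOut_of_sum n r (c' + 1) Qs g hN (Fin 2 ⊕ (Fin c' ⊕ Fin c')) ?_
      (sumQ (negPlane Qs x y) (Cfsg.Agent.Lib.Helper14.plusQF c' F))
      (sumQ_nondeg _ _ (negPlane_nondeg Qs x y hx hxy han)
        (Cfsg.Agent.Lib.Helper14.plusQF_nondegenerate c' F))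
      (LinearMap.range (PsiM e x y c')) ?_ ?_
    · simp only [Fintype.card_sum, Fintype.card_fin]
      ring
    · rintro _ ⟨⟨α, a, h⟩, rfl⟩
      rw [sumQ_apply, PsiM_inl, PsiM_inr, sumQ_apply]
      have e1 : (Sum.elim a (Sum.elim h (0 : Fin c' → F))) ∘ Sum.inl = a := rfl
      have e2 : (Sum.elim a (Sum.elim h (0 : Fin c' → F))) ∘ Sum.inr = Sum.elim h 0 := rfl
      rw [e1, e2, negPlane_apply, Cfsg.Agent.Lib.Helper14.plusQF_coe]
      have e3 : Cfsg.quadFormPlus c' F (Sum.elim h (0 : Fin c' → F)) = 0 := by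
        unfold Cfsg.quadFormPlus
        simp
      rw [e3, add_zero]
      show Qs (Fintype.linearCombination F e α + ell x y a) + -Qs (ell x y a) = 0
      rw [QuadraticMap.map_add Qs, hsing]
      have hp : polar Qs (Fintype.linearCombination F e α) (ell x y a) = 0 := by
        rw [polar_comm, Fintype.linearCombination_apply, ← polarBilin_apply_apply, map_sum]
        apply Finset.sum_eq_zero
        intro i _
        rw [map_smul, polarBilin_apply_apply, ell_apply, polar_add_left, polar_smul_left,
          polar_smul_left, (hxe i).1, (hye i).1]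
        simp
      rw [hp]
      ring
    · rw [LinearMap.finrank_range_of_inj (PsiM_injective e x y hli)]
      rw [Module.finrank_prod, Module.finrank_prod, Module.finrank_fin_fun, Module.finrank_fin_fun,
        Module.finrank_fin_fun, hk]
      ring

end Cfsg.Agent.Lib.Helper19.OTSP
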